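import Groth.Agent.EtLA91.TorsionInduction
import Groth.Agent.LocConst45.AbConst
import Groth.Agent.LocConst45.AbPull
import Groth.Agent.Unr55.Et.HFiltColim
import Groth.Agent.EtTor93.Hpull

/-!
Cohomology of constant torsion sheaves, and pullback to strictly henselian bases.
-/

set_option autoImplicit false
set_option backward.isDefEq.respectTransparency.types false
set_option maxHeartbeats 400000
universe u

open CategoryTheory CategoryTheory.Limits CategoryTheory.Abelian AlgebraicGeometry Opposite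

namespace Groth.Agent.EtLA91

/-- The constant sheaf functor on the étale site. -/
noncomputable abbrev Cst (X : Scheme.{u}) : AddCommGrpCat.{u + 1} ⥤ EtCoh.Ab X :=
  constantSheaf X.smallEtaleTopology AddCommGrpCat.{u + 1}

/-- The integers one universe up. -/
abbrev intU : AddCommGrpCat.{u + 1} := AddCommGrpCat.of (ULift.{u + 1} ℤ)

variable (X : Scheme.{u})

instance cst_additive : (Cst X).Additive :=
  inferInstanceAs (Functor.const X.Etaleᵒᵖ ⋙ presheafToSheaf X.smallEtaleTopology AddCommGrpCat.{u + 1}).Additive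

variable {X}

theorem cst_hom_ext {M : AddCommGrpCat.{u + 1}} {F : EtCoh.Ab X} (c c' : (Cst X).obj M ⟶ F)
    (h : ∀ m, c.hom.app (op (EtCoh.top X)) (LocConst45.constσ M (EtCoh.top X) m) =
      c'.hom.app (op (EtCoh.top X)) (LocConst45.constσ M (EtCoh.top X) m)) : c = c' := by
  refine Sheaf.hom_ext (sheafify_hom_ext X.smallEtaleTopology c.hom c'.hom F.property ?_)
  refine NatTrans.ext (funext fun W => ConcreteCategory.hom_ext _ _ fun m => ?_)
  change c.hom.app W (LocConst45.constσ M W.unop m) = c'.hom.app W (LocConst45.constσ M W.unop m)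
  let a := (EtCore.topIsTerminal X).from W.unop
  rw [← LocConst45.constσ_map M a m]
  refine (NatTrans.naturality_apply c.hom a.op _).trans
    (Eq.trans ?_ (NatTrans.naturality_apply c'.hom a.op _).symm)
  exact congrArg (F.obj.map a.op) (h m)

variable (X)

/-- Constant classes in degree zero. -/
noncomputable def psi (M : AddCommGrpCat.{u + 1}) :
    (intU.{u} ⟶ M) →+ EtCoh.H X ((Cst X).obj M) 0 :=
  AddMonoidHom.mk' (fun k => Ext.mk₀ ((Cst X).map k)) fun k l =>
    (congrArg Ext.mk₀ ((Cst X).map_add)).trans (Ext.mk₀_add _ _)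

theorem psi_injective [Nonempty X] (M : AddCommGrpCat.{u + 1}) : Function.Injective (psi X M) := by
  refine (injective_iff_map_eq_zero _).2 fun k hk => ?_
  have hk' : (Cst X).map k = 0 := (Ext.mk₀_bijective _ _).1 (hk.trans (Ext.mk₀_zero _ _).symm)
  refine ConcreteCategory.hom_ext _ _ fun z => ?_
  refine (LocConst45.isTriv_const M (EtCoh.top X)).inj _ (𝟙 _) _ ‹Nonempty X› ?_
  rw [op_id, CategoryTheory.Functor.map_id, ConcreteCategory.id_apply, ← LocConst45.constσ_natural, hk']
  rfl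

theorem nonempty_of_nontrivial_H0 (M : AddCommGrpCat.{u + 1}) (F : EtCoh.Ab X) (h : intU ⟶ M)
    [Nontrivial (EtCoh.H X F 0)] : Nonempty X := by
  by_contra hX
  have : IsEmpty X := not_nonempty_iff.1 hX
  have : IsEmpty (EtCoh.top X).left := this
  obtain ⟨a, b, hab⟩ := exists_pair_ne (EtCoh.H X F 0)
  obtain ⟨a, rfl⟩ := (Ext.mk₀_bijective _ _).2 a
  obtain ⟨b, rfl⟩ := (Ext.mk₀_bijective _ _).2 b
  exact hab (congrArg Ext.mk₀ (cst_hom_ext a b fun m =>
    (Unr55.EtSh.sect_eq_zero_of_isEmpty _ _).trans (Unr55.EtSh.sect_eq_zero_of_isEmpty _ _).symm))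

theorem psi_surjective_strictHens (R : Type u) [CommRing R] [HenselianLocalRing R]
    [IsSepClosed (IsLocalRing.ResidueField R)] (M : AddCommGrpCat.{u + 1}) :
    Function.Surjective (psi (Spec (CommRingCat.of R)) M) := by
  intro y
  obtain ⟨c, rfl⟩ := (Ext.mk₀_bijective _ _).2 y
  let T := EtCoh.top (Spec (CommRingCat.of R))
  let s : EtCoh.sect ((Cst (Spec (CommRingCat.of R))).obj M) T :=
    c.hom.app (op T) (LocConst45.constσ _ T (ULift.up (1 : ℤ)))
  obtain ⟨V, g, v, m, hv, hm⟩ := (LocConst45.isTriv_const M T).surj T (𝟙 _) s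
    ((Unr55.EtSh.closedPt R) default)
  rw [LocConst45.constσ_map] at hm
  obtain ⟨t, -⟩ := LocConst45.exists_pt_over g (Unr55.EtSh.topPt R) v hv
  obtain ⟨σ, -⟩ := Unr55.EtSh.exists_section_top R t
  have hσ : σ ≫ g = 𝟙 _ := (EtCore.topIsTerminal _).hom_ext _ _
  have hs : s = LocConst45.constσ M T m := by
    have h := congrArg (((Cst (Spec (CommRingCat.of R))).obj M).obj.map σ.op) hm
    rwa [← LocConst45.map_comp', hσ, op_id, CategoryTheory.Functor.map_id, ConcreteCategory.id_apply,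
      LocConst45.constσ_map] at h
  let k : intU.{u} ⟶ M :=
    AddCommGrpCat.ofHom ((zmultiplesHom M m).comp AddEquiv.ulift.toAddMonoidHom)
  refine ⟨k, congrArg Ext.mk₀ (cst_hom_ext _ _ ?_)⟩
  rintro ⟨z⟩
  rw [LocConst45.constσ_natural]
  change LocConst45.constσ M T (z • m) = _
  rw [show (⟨z⟩ : intU.{u}) = z • (ULift.up (1 : ℤ) : intU.{u}) from ULift.ext _ _ (by simp)]
  rw [map_zsmul, map_zsmul, map_zsmul, ← hs]

theorem psi_natural {M N : AddCommGrpCat.{u + 1}} (f : M ⟶ N) (k : intU ⟶ M) :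
    (EtCoh.HF X 0).map ((Cst X).map f) (psi X M k) = psi X N (k ≫ f) := by
  change (Ext.mk₀ ((Cst X).map k)).comp (Ext.mk₀ ((Cst X).map f)) (add_zero 0) = Ext.mk₀ _
  rw [Ext.mk₀_comp_mk₀, Functor.map_comp]

/-- Cohomology of constant sheaves as a functor of the group. -/
noncomputable abbrev hCst (q : ℕ) : AddCommGrpCat.{u + 1} ⥤ AddCommGrpCat.{u + 1} :=
  Cst X ⋙ EtCoh.HF X q

instance hCst_additive (q : ℕ) : (hCst X q).Additive where
  map_add {M N f g} := ConcreteCategory.hom_ext _ _ fun e => by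
    change e.comp (Ext.mk₀ ((Cst X).map (f + g))) (add_zero q) =
      e.comp (Ext.mk₀ ((Cst X).map f)) (add_zero q) + e.comp (Ext.mk₀ ((Cst X).map g)) (add_zero q)
    rw [(Cst X).map_add, Ext.mk₀_add, Ext.comp_add]

theorem preservesColimitsOfShape_hCst [CompactSpace X] [QuasiSeparatedSpace X] (q : ℕ)
    (M : AddCommGrpCat.{u + 1}) : PreservesColimitsOfShape (Finset M) (hCst X q) := by
  classical
  have : PreservesColimitsOfShape (Finset M) (EtCoh.HF X q) :=
    Unr55.HColim.preservesColimitsOfShape_HF (Finset M) q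
  have : PreservesColimitsOfShape (Finset M) (Cst X) :=
    (EtCore.constAdj X).leftAdjoint_preservesColimits.preservesColimitsOfShape
  infer_instance

/-- The hypothesis of acyclicity for constant coefficients of invertible order. -/
def IsCycAcyclic (P : ℕ → Prop) : Prop :=
  ∀ n : ℕ, P n → (∀ q : ℕ, 0 < q → Subsingleton (EtCoh.H X (EtCoh.const X (ZMod n)) q)) ∧
    Nonempty (EtCoh.H X (EtCoh.const X (ZMod n)) 0 ≃+ ZMod n)

variable {X} {P : ℕ → Prop}

theorem H_const_subsingleton [CompactSpace X] [QuasiSeparatedSpace X] (hX : IsCycAcyclic X P)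
    (hP : ∀ a b, a ∣ b → P b → P a) (M : AddCommGrpCat.{u + 1})
    (hM : ∀ m : M, ∃ n, 0 < n ∧ P n ∧ n • m = 0) {q : ℕ} (hq : 0 < q) :
    Subsingleton (EtCoh.H X ((Cst X).obj M) q) := by
  have := preservesColimitsOfShape_hCst X q
  have h := top_of_torsion (hCst X q) (fun _ => ⊥) P hP
    (fun f x hx => by rw [AddSubgroup.mem_bot] at hx ⊢; rw [hx, map_zero])
    (fun n _ hn => eq_top_iff.2 fun x _ => (AddSubgroup.mem_bot).2 (((hX n hn).1 q hq).elim x 0)) M hM
  refine subsingleton_of_forall_eq 0 fun x => ?_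
  have hx : (x : (hCst X q).obj M) ∈ (⊥ : AddSubgroup ((hCst X q).obj M)) := by
    rw [h]; exact AddSubgroup.mem_top _
  exact AddSubgroup.mem_bot.1 hx

theorem psi_surjective [CompactSpace X] [QuasiSeparatedSpace X] [Nonempty X] (hX : IsCycAcyclic X P)
    (hP : ∀ a b, a ∣ b → P b → P a) (M : AddCommGrpCat.{u + 1})
    (hM : ∀ m : M, ∃ n, 0 < n ∧ P n ∧ n • m = 0) :
    Function.Surjective (psi X M) := by
  have := preservesColimitsOfShape_hCst X 0
  refine AddMonoidHom.range_eq_top.1 (top_of_torsion (hCst X 0) (fun M => (psi X M).range) P hP ?_ ?_ M hM)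
  · rintro M N f _ ⟨k, rfl⟩
    exact ⟨k ≫ f, (psi_natural X f k).symm⟩
  · intro n hn0 hn
    have : NeZero n := ⟨hn0.ne'⟩
    obtain ⟨e⟩ := (hX n hn).2
    refine AddMonoidHom.range_eq_top.2 fun y => ?_
    let j : ZMod n → (intU.{u} ⟶ cyc.{u + 1} n) := fun a =>
      AddCommGrpCat.ofHom ((zmultiplesHom _ (ULift.up a)).comp AddEquiv.ulift.toAddMonoidHom)
    have hj : Function.Injective j := fun a b h => by
      have h1 := ConcreteCategory.congr_hom h (ULift.up 1)
      change (1 : ℤ) • (ULift.up a : cyc.{u + 1} n) = (1 : ℤ) • ULift.up b at h1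
      rw [one_smul, one_smul] at h1
      exact congrArg ULift.down h1
    obtain ⟨a, ha⟩ := Finite.injective_iff_surjective.1
      (e.injective.comp ((psi_injective X (cyc.{u + 1} n)).comp hj)) (e y)
    exact ⟨j a, e.injective ha⟩

variable {Y : Scheme.{u}}

theorem Hpull_psi (v : X ⟶ Y) [PreservesFiniteLimits (EtCoh.pull v)] (M : AddCommGrpCat.{u + 1})
    (k : intU ⟶ M) :
    EtCore.Hpull v ((Cst Y).obj M) 0 (psi Y M k) =
      (EtCoh.HF X 0).map ((EtCore.pullConstIso v).inv.app M) (psi X M k) := by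
  change (Ext.mk₀ (EtCore.pullConst v ℤ).inv).comp
      ((EtCoh.pull v).mapExtAddHom _ _ 0 (Ext.mk₀ ((Cst Y).map k))) (zero_add 0) =
    (Ext.mk₀ ((Cst X).map k)).comp (Ext.mk₀ ((EtCore.pullConstIso v).inv.app M)) (add_zero 0)
  simp only [Functor.mapExtAddHom_coe]
  rw [Ext.mapExactFunctor_mk₀, Ext.mk₀_comp_mk₀, Ext.mk₀_comp_mk₀]
  exact congrArg Ext.mk₀ ((EtCore.pullConstIso v).inv.naturality k).symm

theorem Hpull_const_bijective (v : X ⟶ Y) [PreservesFiniteLimits (EtCoh.pull v)] (M : AddCommGrpCat.{u + 1})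
    (hY0 : Function.Surjective (psi Y M)) (hX0 : Function.Bijective (psi X M)) :
    Function.Bijective (EtCore.Hpull v ((Cst Y).obj M) 0) := by
  have hi : Function.Bijective ((EtCoh.HF X 0).map ((EtCore.pullConstIso v).inv.app M)) :=
    ConcreteCategory.bijective_of_isIso _
  have h : Function.Bijective (EtCore.Hpull v ((Cst Y).obj M) 0 ∘ psi Y M) := by
    rw [show EtCore.Hpull v ((Cst Y).obj M) 0 ∘ psi Y M = _ from funext (Hpull_psi v M)]
    exact hi.comp hX0
  exact ⟨(Function.Injective.of_comp_iff' _ ⟨h.injective.of_comp, hY0⟩).1 h.injective, h.surjective.of_comp⟩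

theorem Hpull_bijective_of_iso (v : X ⟶ Y) [PreservesFiniteLimits (EtCoh.pull v)] {F G : EtCoh.Ab Y}
    (a : F ≅ G) (q : ℕ) (h : Function.Bijective (EtCore.Hpull v F q)) :
    Function.Bijective (EtCore.Hpull v G q) := by
  have h1 : Function.Bijective ((EtCoh.HF Y q).map a.hom) := ConcreteCategory.bijective_of_isIso _
  have h2 : Function.Bijective ((EtCoh.HF X q).map ((EtCoh.pull v).map a.hom)) :=
    ConcreteCategory.bijective_of_isIso _
  have e : (fun x : EtCoh.H Y F q => EtCore.Hpull v G q ((EtCoh.HF Y q).map a.hom x)) =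
      fun x : EtCoh.H Y F q => (EtCoh.HF X q).map ((EtCoh.pull v).map a.hom) (EtCore.Hpull v F q x) :=
    funext (EtTor93.Hpull_comp_mk₀ v a.hom q)
  exact (Function.Bijective.of_comp_iff _ h1).1 ((congrArg Function.Bijective e).mpr (h2.comp h))

end Groth.Agent.EtLA91
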