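import Groth.Agent.EtCore45.HpullUH
import Groth.Agent.Unr55.Et.PullExact
import Groth.Prelude.Def_EtCore
import Mathlib.AlgebraicGeometry.Morphisms.Integral
import Mathlib.AlgebraicGeometry.Morphisms.UniversallyInjective

/-!
Cohomology of constant sheaves under isomorphisms.
-/

set_option autoImplicit false
set_option backward.isDefEq.respectTransparency.types false
universe u

open CategoryTheory CategoryTheory.Limits AlgebraicGeometry

namespace Groth.Agent.EtLA91

theorem nonempty_H_equiv_of_isIso {X Y : Scheme.{u}} (f : X ⟶ Y) [IsIso f] (M : Type) [AddCommGroup M] (q : ℕ) :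
    Nonempty (EtCoh.H Y (EtCoh.const Y M) q ≃+ EtCoh.H X (EtCoh.const X M) q) := by
  have := Unr55.EtSh.preservesFiniteLimits_pull f
  exact ⟨(AddEquiv.ofBijective _ (EtCore45.Hpull_bijective_uh f (EtCoh.const Y M) q)).trans
    ((EtCoh.HF X q).mapIso ((EtCore.pullConstIso f).app _)).addCommGroupIsoToAddEquiv⟩

theorem nonempty_H_spec_equiv {R R' : Type u} [CommRing R] [CommRing R'] (e : R ≃+* R') (M : Type) [AddCommGroup M]
    (q : ℕ) : Nonempty (EtCoh.H (Spec (CommRingCat.of R)) (EtCoh.const _ M) q ≃+
      EtCoh.H (Spec (CommRingCat.of R')) (EtCoh.const _ M) q) :=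
  nonempty_H_equiv_of_isIso (Spec.map e.toCommRingCatIso.hom) M q

end Groth.Agent.EtLA91
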