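import Mathlib.AlgebraicGeometry.AffineScheme
import Mathlib.AlgebraicGeometry.OpenImmersion

/-!
Stalks in affine charts.
-/

set_option autoImplicit false
set_option backward.isDefEq.respectTransparency.types false

universe u

open CategoryTheory AlgebraicGeometry

namespace Groth.Agent.EtLA91

variable {R R' : CommRingCat.{u}} {X X' : Scheme.{u}}

/-- The stalk of a scheme at a point of an affine chart is a localization. -/
noncomputable def chartStalkIso (a : Spec R ⟶ X) [IsOpenImmersion a] (p : PrimeSpectrum R) (x : X) (hx : a p = x) :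
    X.presheaf.stalk x ≅ CommRingCat.of (Localization.AtPrime p.asIdeal) :=
  (X.presheaf.stalkCongr (.of_eq hx.symm)) ≪≫ asIso (a.stalkMap p) ≪≫ Spec.stalkIso R p

/-- The germ map of an affine chart. -/
noncomputable def chartGerm (a : Spec R ⟶ X) [IsOpenImmersion a] (p : PrimeSpectrum R) (x : X) (hx : a p = x) :
    R ⟶ X.presheaf.stalk x :=
  CommRingCat.ofHom (algebraMap R (Localization.AtPrime p.asIdeal)) ≫ (chartStalkIso a p x hx).inv

theorem isLocalization_chartGerm (a : Spec R ⟶ X) [IsOpenImmersion a] (p : PrimeSpectrum R) (x : X) (hx : a p = x) :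
    @IsLocalization.AtPrime R _ (X.presheaf.stalk x) _ (chartGerm a p x hx).hom.toAlgebra p.asIdeal _ := by
  letI : Algebra R (X.presheaf.stalk x) := (chartGerm a p x hx).hom.toAlgebra
  exact IsLocalization.isLocalization_of_algEquiv p.asIdeal.primeCompl
    (AlgEquiv.ofRingEquiv (f := (chartStalkIso a p x hx).symm.commRingCatIsoToRingEquiv) fun _ => rfl)

theorem stalk_refl (X : Scheme.{u}) {y : X} (h : y = y) : (X.presheaf.stalkCongr (.of_eq h)).hom = 𝟙 _ :=
  TopCat.Presheaf.stalkSpecializes_refl _ y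

theorem stalk_loop (X : Scheme.{u}) {y x z z' : X} (h1 : x = y) (h2 : x = z) (h3 : z = z') (h4 : z' = y) :
    (X.presheaf.stalkCongr (.of_eq h1)).inv ≫ (X.presheaf.stalkCongr (.of_eq h2)).hom ≫
      (X.presheaf.stalkCongr (.of_eq h3)).hom = (X.presheaf.stalkCongr (.of_eq h4.symm)).hom := by
  subst h1 h2 h3
  simp [TopCat.Presheaf.stalkCongr]

/-- Germ maps commute with stalk maps. -/
theorem stalkMap_chartGerm (a : Spec R ⟶ X) [IsOpenImmersion a] (h : Spec R' ⟶ X') [IsOpenImmersion h]
    (φ : R ⟶ R') (g : X' ⟶ X) (w : h ≫ g = Spec.map φ ≫ a) (p' : PrimeSpectrum R') (x' : X') (hx' : h p' = x')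
    (p : PrimeSpectrum R) (hp : p = p'.comap φ.hom) (x : X) (hgx : g x' = x) (hx : a p = x) :
    chartGerm a p x hx ≫ (X.presheaf.stalkCongr (.of_eq hgx.symm)).hom ≫ g.stalkMap x' =
      φ ≫ chartGerm h p' x' hx' := by
  subst hx' hp
  have h1 : g.stalkMap (h p') ≫ h.stalkMap p' =
      (X.presheaf.stalkCongr (.of_eq (congrArg (fun q : Spec R' ⟶ X => q p') w))).hom ≫
        (Spec.map φ ≫ a).stalkMap p' :=
    (Scheme.Hom.stalkMap_comp h g p').symm.trans (Scheme.Hom.stalkMap_congr_hom _ _ w p')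
  let q : PrimeSpectrum R := p'.comap φ.hom
  let α : R ⟶ (Spec R).presheaf.stalk q :=
    CommRingCat.ofHom (algebraMap R (Localization.AtPrime q.asIdeal)) ≫ (Spec.stalkIso R q).inv
  have key : α ≫ (Spec.map φ).stalkMap p' =
      φ ≫ CommRingCat.ofHom (algebraMap R' (Localization.AtPrime p'.asIdeal)) ≫ (Spec.stalkIso R' p').inv := by
    rw [← Scheme.localRingHom_comp_stalkIso]
    refine (Category.assoc _ _ _).trans ((congrArg (_ ≫ ·) (Iso.inv_hom_id_assoc _ _)).trans ?_)
    refine ((Category.assoc _ _ _).symm.trans (congrArg (· ≫ _) ?_)).trans (Category.assoc _ _ _)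
    exact CommRingCat.hom_ext (RingHom.ext fun r => Localization.localRingHom_to_map _ _ φ.hom rfl r)
  refine (cancel_mono (h.stalkMap p')).1 ?_
  have hc := stalk_loop X hx.symm hgx.symm (congrArg (fun q : Spec R' ⟶ X => q p') w)
    (rfl : (Spec.map φ ≫ a) p' = a q)
  calc (chartGerm a q x hx ≫ (X.presheaf.stalkCongr (.of_eq hgx.symm)).hom ≫ g.stalkMap (h p')) ≫ h.stalkMap p'
      = α ≫ inv (a.stalkMap q) ≫ ((X.presheaf.stalkCongr (.of_eq hx.symm)).inv ≫
          (X.presheaf.stalkCongr (.of_eq hgx.symm)).hom ≫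
          (X.presheaf.stalkCongr (.of_eq (congrArg (fun q : Spec R' ⟶ X => q p') w))).hom) ≫
          (Spec.map φ ≫ a).stalkMap p' := by
        have hβ : chartGerm a q x hx = α ≫ inv (a.stalkMap q) ≫ (X.presheaf.stalkCongr (.of_eq hx.symm)).inv := by
          simp [chartGerm, chartStalkIso, α]
        rw [hβ]
        simp only [Category.assoc]
        exact congrArg (fun t => α ≫ inv (a.stalkMap q) ≫ (X.presheaf.stalkCongr (.of_eq hx.symm)).inv ≫
          (X.presheaf.stalkCongr (.of_eq hgx.symm)).hom ≫ t) h1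
    _ = α ≫ inv (a.stalkMap q) ≫ (X.presheaf.stalkCongr (.of_eq (rfl : a q = (Spec.map φ ≫ a) p'))).hom ≫
          (Spec.map φ ≫ a).stalkMap p' :=
        congrArg (fun t => α ≫ inv (a.stalkMap q) ≫ t ≫ (Spec.map φ ≫ a).stalkMap p') hc
    _ = α ≫ (Spec.map φ).stalkMap p' := by
        refine congrArg (α ≫ ·) ?_
        refine (congrArg (inv (a.stalkMap q) ≫ ·) ?_).trans (IsIso.inv_hom_id_assoc _ _)
        exact (congrArg (· ≫ _) (stalk_refl X (rfl : a q = a q))).trans
          ((Category.id_comp _).trans (Scheme.Hom.stalkMap_comp (Spec.map φ) a p'))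
    _ = _ := by
        rw [key]
        simp [chartGerm, chartStalkIso, TopCat.Presheaf.stalkCongr]

/-- Germ maps commute with stalk maps, at the image point. -/
theorem stalkMap_chartGerm₀ (a : Spec R ⟶ X) [IsOpenImmersion a] (h : Spec R' ⟶ X') [IsOpenImmersion h]
    (φ : R ⟶ R') (g : X' ⟶ X) (w : h ≫ g = Spec.map φ ≫ a) (p' : PrimeSpectrum R') (x' : X') (hx' : h p' = x')
    (p : PrimeSpectrum R) (hp : p = p'.comap φ.hom) (hx : a p = g x') :
    chartGerm a p (g x') hx ≫ g.stalkMap x' = φ ≫ chartGerm h p' x' hx' :=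
  (congrArg (chartGerm a p (g x') hx ≫ ·) ((Category.id_comp _).symm.trans
    (congrArg (· ≫ g.stalkMap x') (stalk_refl X (rfl : g x' = g x')).symm))).trans
    (stalkMap_chartGerm a h φ g w p' x' hx' p hp (g x') rfl hx)

end Groth.Agent.EtLA91
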