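import Groth.Agent.EtLA91.ShTensor
import Groth.Agent.EtLA91.StalkChart
import Groth.Agent.EtLA91.IsoCoh
import Groth.Prelude.Def_EtRestW
import Mathlib.AlgebraicGeometry.Pullbacks
import Mathlib.AlgebraicGeometry.PullbackCarrier

/-!
Local acyclicity is stable under locally integral base change.
-/

set_option autoImplicit false
set_option backward.isDefEq.respectTransparency.types false
set_option linter.style.haveILetI false
universe u

open CategoryTheory CategoryTheory.Limits AlgebraicGeometry TensorProduct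

namespace Groth.Agent.EtLA91

/-- Every element of the local ring is a fraction of integral elements. -/
def FracIntegral {A B : CommRingCat.{u}} (φ : A ⟶ B) (p : PrimeSpectrum B) : Prop :=
  letI : Algebra A B := φ.hom.toAlgebra
  ∀ x : Localization.AtPrime p.asIdeal, ∃ b r : Localization.AtPrime p.asIdeal,
    IsIntegral A b ∧ IsIntegral A r ∧ IsUnit r ∧ r * x = b

/-- The morphism has such charts at every point. -/
def LocFracIntegral {S' S : Scheme.{u}} (g : S' ⟶ S) : Prop :=
  ∀ s' : S', ∃ (A B : CommRingCat.{u}) (a : Spec A ⟶ S) (_ : IsOpenImmersion a) (b : Spec B ⟶ S')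
    (_ : IsOpenImmersion b) (φ : A ⟶ B) (p : PrimeSpectrum B),
    b ≫ g = Spec.map φ ≫ a ∧ b p = s' ∧ FracIntegral φ p

set_option maxHeartbeats 1000000 in
theorem isLocallyAcyclic_baseChange {X S S' : Scheme.{u}} (f : X ⟶ S) (g : S' ⟶ S) (hg : LocFracIntegral g)
    (hf : EtRest.IsLocallyAcyclic f) : EtRest.IsLocallyAcyclic (pullback.snd f g) := by
  intro x' RS' RX' _ _ _ _ _ _ _ _ _ _ _ _ hc' Ω _ _ _ n hn
  let s' : S' := (pullback.snd f g) x'
  let x : X := (pullback.fst f g) x'
  obtain ⟨A, B, a, _, b, _, φ, p, hb, hp, hfrac⟩ := hg s'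
  have hgf : g s' = f x := (congrArg (fun q : pullback f g ⟶ S => q x') pullback.condition).symm
  have hxa : f x ∈ Set.range a :=
    ⟨Spec.map φ p, ((congrArg (fun q : Spec B ⟶ S => q p) hb).symm.trans (congrArg g hp)).trans hgf⟩
  obtain ⟨V, hV, hxV, hVa⟩ := exists_isAffineOpen_mem_and_subset (U := f ⁻¹ᵁ a.opensRange) (x := x) hxa
  let C := Γ(X, V)
  let c : Spec C ⟶ X := hV.fromSpec
  obtain ⟨pc, hpc⟩ := (hV.range_fromSpec.symm ▸ hxV : x ∈ Set.range c)
  have hca : Set.range (c ≫ f) ⊆ Set.range a := by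
    rintro _ ⟨z, rfl⟩
    exact hVa (hV.range_fromSpec.le ⟨z, rfl⟩)
  obtain ⟨ψ, hψ⟩ : ∃ ψ, Spec.map ψ = IsOpenImmersion.lift a (c ≫ f) hca := ⟨_, Spec.map_preimage _⟩
  have hw : c ≫ f = Spec.map ψ ≫ a := by rw [hψ, IsOpenImmersion.lift_fac]
  letI : Algebra A B := φ.hom.toAlgebra
  letI : Algebra A C := ψ.hom.toAlgebra
  let P := pullback (Spec.map (CommRingCat.ofHom (algebraMap A C))) (Spec.map (CommRingCat.ofHom (algebraMap A B)))
  let m : P ⟶ pullback f g := pullback.map _ _ f g c b a hw.symm hb.symm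
  have hx' : x' ∈ Set.range m := by
    rw [Scheme.Pullback.range_map]
    exact ⟨⟨pc, hpc⟩, ⟨p, hp⟩⟩
  obtain ⟨z, hz⟩ := hx'
  let e : P ≅ Spec (CommRingCat.of (B ⊗[A] C)) :=
    pullbackSymmetry _ _ ≪≫ pullbackSpecIso A B C
  let d : Spec (CommRingCat.of (B ⊗[A] C)) ⟶ pullback f g := e.inv ≫ m
  let pD : PrimeSpectrum (B ⊗[A] C) := e.hom z
  have hd : d pD = x' := by
    change m (e.inv (e.hom z)) = x'
    rw [← Scheme.Hom.comp_apply e.hom e.inv, e.hom_inv_id]
    exact hz
  let incB : B ⟶ CommRingCat.of (B ⊗[A] C) := CommRingCat.ofHom (algebraMap B (B ⊗[A] C))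
  let incC : C ⟶ CommRingCat.of (B ⊗[A] C) := CommRingCat.ofHom
    (Algebra.TensorProduct.includeRight : C →ₐ[A] B ⊗[A] C).toRingHom
  have hd2 : d ≫ pullback.snd f g = Spec.map incB ≫ b := by
    change (e.inv ≫ m) ≫ _ = _
    rw [Category.assoc, pullback.lift_snd]
    simp only [e, Iso.trans_inv, Category.assoc, pullbackSymmetry_inv_comp_snd_assoc]
    exact pullbackSpecIso_inv_fst'_assoc A B C b
  have hd1 : d ≫ pullback.fst f g = Spec.map incC ≫ c := by
    change (e.inv ≫ m) ≫ _ = _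
    rw [Category.assoc, pullback.lift_fst]
    simp only [e, Iso.trans_inv, Category.assoc, pullbackSymmetry_inv_comp_fst_assoc]
    exact (Category.assoc _ _ _).symm.trans (congrArg (· ≫ c) (pullbackSpecIso_inv_snd A B C))
  let pB : PrimeSpectrum B := pD.comap incB.hom
  let pC : PrimeSpectrum C := pD.comap incC.hom
  let pA : PrimeSpectrum A := pB.comap φ.hom
  have hpB : b pB = s' := ((congrArg (fun q : Spec (CommRingCat.of (B ⊗[A] C)) ⟶ S' => q pD) hd2).symm.trans
    (congrArg (pullback.snd f g) hd))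
  have hpC : c pC = x := ((congrArg (fun q : Spec (CommRingCat.of (B ⊗[A] C)) ⟶ X => q pD) hd1).symm.trans
    (congrArg (pullback.fst f g) hd))
  have hpeq : p = pB := b.isOpenEmbedding.injective (hp.trans hpB.symm)
  have hpA : a pA = f x := ((congrArg (fun q : Spec B ⟶ S => q pB) hb).symm.trans (congrArg g hpB)).trans hgf
  have hACB : (incC.hom.comp ψ.hom) = incB.hom.comp φ.hom := RingHom.ext fun r =>
    ((Algebra.TensorProduct.includeRight : C →ₐ[A] B ⊗[A] C).commutes r).trans
      ((Algebra.TensorProduct.includeLeft (S := A) : B →ₐ[A] B ⊗[A] C).commutes r).symm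
  have hAC : pA = pC.comap ψ.hom := PrimeSpectrum.ext <| by
    change (pD.asIdeal.comap incB.hom).comap φ.hom = (pD.asIdeal.comap incC.hom).comap ψ.hom
    rw [Ideal.comap_comap, Ideal.comap_comap, hACB]
  haveI : pB.asIdeal.LiesOver pA.asIdeal := ⟨rfl⟩
  haveI : pC.asIdeal.LiesOver pA.asIdeal := ⟨congrArg PrimeSpectrum.asIdeal hAC⟩
  letI : Algebra A (S.presheaf.stalk (f x)) := (chartGerm a pA (f x) hpA).hom.toAlgebra
  haveI : IsLocalization.AtPrime (S.presheaf.stalk (f x)) pA.asIdeal := isLocalization_chartGerm a pA (f x) hpA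
  letI : Algebra B (S'.presheaf.stalk s') := (chartGerm b pB s' hpB).hom.toAlgebra
  haveI : IsLocalization.AtPrime (S'.presheaf.stalk s') pB.asIdeal := isLocalization_chartGerm b pB s' hpB
  letI : Algebra C (X.presheaf.stalk x) := (chartGerm c pC x hpC).hom.toAlgebra
  haveI : IsLocalization.AtPrime (X.presheaf.stalk x) pC.asIdeal := isLocalization_chartGerm c pC x hpC
  letI : Algebra (B ⊗[A] C) ((pullback f g).presheaf.stalk x') := (chartGerm d pD x' hd).hom.toAlgebra
  haveI : IsLocalization.AtPrime ((pullback f g).presheaf.stalk x') pD.asIdeal :=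
    isLocalization_chartGerm d pD x' hd
  have natC := stalkMap_chartGerm₀ a c ψ f hw pC x hpC pA hAC hpA
  have natB := stalkMap_chartGerm₀ b d incB (pullback.snd f g) hd2 pD x' hd pB rfl hpB
  obtain ⟨RS, RX, _, _, _, _, _, _, _, _, _, _, _, _, hcomp, hvc⟩ :=
    exists_base pA.asIdeal pB.asIdeal pC.asIdeal pD.asIdeal (S.presheaf.stalk (f x)) (S'.presheaf.stalk s')
      (X.presheaf.stalk x) ((pullback f g).presheaf.stalk x') rfl rfl (hpeq ▸ hfrac)
      (f.stalkMap x).hom (fun r => congrArg (fun q : A ⟶ X.presheaf.stalk x => q.hom r) natC) RS' RX' fun r =>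
        (RingHom.congr_fun hc' _).trans (congrArg (algebraMap ((pullback f g).presheaf.stalk x') RX')
          (congrArg (fun q : B ⟶ (pullback f g).presheaf.stalk x' => q.hom r) natB))
  obtain ⟨_, ⟨θ⟩⟩ := hvc Ω
  have hn' : (n : X.residueField x) ≠ 0 := fun h => hn (by
    have := congrArg ((pullback.fst f g).residueFieldMap x').hom h
    rwa [map_natCast, map_zero] at this)
  obtain ⟨h1, ⟨h2⟩⟩ := hf x RS RX hcomp Ω n hn'
  refine ⟨fun q hq => ?_, ?_⟩
  · have := h1 q hq
    obtain ⟨w⟩ := nonempty_H_spec_equiv θ (ZMod n) q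
    exact w.toEquiv.subsingleton
  · obtain ⟨w⟩ := nonempty_H_spec_equiv θ (ZMod n) 0
    exact ⟨w.trans h2⟩

end Groth.Agent.EtLA91
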