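import Groth.Agent.EtLA91.BaseChange
import Groth.Agent.Henz21.QuasiFiniteLocal
import Mathlib.AlgebraicGeometry.Morphisms.Integral
import Mathlib.AlgebraicGeometry.Morphisms.QuasiFinite
import Mathlib.AlgebraicGeometry.Morphisms.FiniteType

/-!
Integral and locally quasi-finite morphisms have locally integral charts.
-/

set_option autoImplicit false
set_option backward.isDefEq.respectTransparency.types false
universe u

open CategoryTheory AlgebraicGeometry

namespace Groth.Agent.EtLA91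

theorem exists_affine_charts {S' S : Scheme.{u}} (g : S' ⟶ S) {U : S.Opens} (hU : IsAffineOpen U)
    {W : S'.Opens} (hW : IsAffineOpen W) (hWU : W ≤ g ⁻¹ᵁ U) {s' : S'} (hs : s' ∈ W)
    (h : ∀ p, FracIntegral (g.appLE U W hWU) p) :
    ∃ (A B : CommRingCat.{u}) (a : Spec A ⟶ S) (_ : IsOpenImmersion a) (b : Spec B ⟶ S')
      (_ : IsOpenImmersion b) (φ : A ⟶ B) (p : PrimeSpectrum B),
      b ≫ g = Spec.map φ ≫ a ∧ b p = s' ∧ FracIntegral φ p := by
  obtain ⟨p, hp⟩ := (hW.range_fromSpec.symm ▸ hs : s' ∈ Set.range hW.fromSpec)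
  exact ⟨_, _, hU.fromSpec, inferInstance, hW.fromSpec, inferInstance, g.appLE U W hWU, p,
    (hU.SpecMap_appLE_fromSpec g hW hWU).symm, hp, h p⟩

theorem locFracIntegral_of_isIntegralHom {S' S : Scheme.{u}} (g : S' ⟶ S) [IsIntegralHom g] :
    LocFracIntegral g := fun s' => by
  obtain ⟨U, hU, hsU, -⟩ := exists_isAffineOpen_mem_and_subset (U := ⊤) (x := g s') trivial
  refine exists_affine_charts g hU (hU.preimage g) le_rfl hsU fun p => ?_
  have hint : (g.appLE U (g ⁻¹ᵁ U) le_rfl).hom.IsIntegral := by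
    rw [← Scheme.Hom.app_eq_appLE]
    exact IsIntegralHom.isIntegral_app g U hU
  intro x
  let : Algebra Γ(S, U) Γ(S', g ⁻¹ᵁ U) := (g.appLE U (g ⁻¹ᵁ U) le_rfl).hom.toAlgebra
  have : Algebra.IsIntegral Γ(S, U) Γ(S', g ⁻¹ᵁ U) := ⟨hint⟩
  obtain ⟨b, r, rfl⟩ := IsLocalization.exists_mk'_eq p.asIdeal.primeCompl x
  exact ⟨algebraMap _ _ b, algebraMap _ _ (r : Γ(S', g ⁻¹ᵁ U)),
    (Algebra.IsIntegral.isIntegral b).algebraMap, (Algebra.IsIntegral.isIntegral _).algebraMap,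
    IsLocalization.map_units _ r, IsLocalization.mk'_spec' _ _ _⟩

theorem locFracIntegral_of_locallyQuasiFinite {S' S : Scheme.{u}} (g : S' ⟶ S) [LocallyOfFiniteType g]
    [LocallyQuasiFinite g] : LocFracIntegral g := fun s' => by
  obtain ⟨U, hU, hsU, -⟩ := exists_isAffineOpen_mem_and_subset (U := ⊤) (x := g s') trivial
  obtain ⟨W, hW, hsW, hWU⟩ := exists_isAffineOpen_mem_and_subset (U := g ⁻¹ᵁ U) (x := s') hsU
  refine exists_affine_charts g hU hW hWU hsW fun p => ?_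
  have h1 : (g.appLE U W hWU).hom.FiniteType :=
    HasRingHomProperty.appLE (P := @LocallyOfFiniteType) g inferInstance ⟨U, hU⟩ ⟨W, hW⟩ hWU
  have h2 : (g.appLE U W hWU).hom.QuasiFinite :=
    HasRingHomProperty.appLE (P := @LocallyQuasiFinite) g inferInstance ⟨U, hU⟩ ⟨W, hW⟩ hWU
  intro x
  let : Algebra Γ(S, U) Γ(S', W) := (g.appLE U W hWU).hom.toAlgebra
  have : Algebra.FiniteType Γ(S, U) Γ(S', W) := h1
  have : Algebra.QuasiFinite Γ(S, U) Γ(S', W) := h2
  obtain ⟨B', hB, h⟩ := Henz21.exists_finite_subalgebra (R := Γ(S, U)) (A := Γ(S, U))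
    (Sq := Localization.AtPrime p.asIdeal) p.asIdeal
  obtain ⟨b, r, hr, hx⟩ := h x
  exact ⟨b, r, (Algebra.IsIntegral.isIntegral (R := Γ(S, U)) b).map B'.val,
    (Algebra.IsIntegral.isIntegral (R := Γ(S, U)) r).map B'.val, hr, hx⟩

end Groth.Agent.EtLA91
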