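import Groth.Agent.EtLA91.ConstTorsion
import Groth.Prelude.Def_EtRestW

/-!
Locally constant torsion sheaves pulled back to a strictly henselian local scheme.
-/

set_option autoImplicit false
set_option backward.isDefEq.respectTransparency.types false
set_option maxHeartbeats 400000
universe u

open CategoryTheory CategoryTheory.Limits AlgebraicGeometry Opposite
open Groth.Agent.Unr55.EtSh

namespace Groth.Agent.EtLA91

theorem exists_iso_cst_of_top {X : Scheme.{u}} (G : EtCoh.Ab X) {M : Type (u + 1)} [AddCommGroup M]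
    (σ : M →+ EtCoh.sect G (EtCoh.top X)) (h : LocConst45.IsTriv G (EtCoh.top X) σ) :
    Nonempty ((Cst X).obj (AddCommGrpCat.of M) ≅ G) := by
  let to' := fun W : X.Etale => (EtCore.topIsTerminal X).from W
  let φ : (Functor.const X.Etaleᵒᵖ).obj (AddCommGrpCat.of M) ⟶ G.obj :=
    { app := fun W => AddCommGrpCat.ofHom ((G.obj.map (to' W.unop).op).hom.comp σ)
      naturality := fun W V k => ConcreteCategory.hom_ext _ _ fun m => by
        change G.obj.map (to' V.unop).op (σ m) = G.obj.map k.unop.op (G.obj.map (to' W.unop).op (σ m))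
        rw [← LocConst45.map_comp',
          (EtCore.topIsTerminal X).hom_ext (k.unop ≫ to' W.unop) (to' V.unop)] }
  have : Presheaf.IsLocallyInjective X.smallEtaleTopology φ := ⟨by
    intro W (m : M) (n : M) hmn
    refine mem_topology fun x => ⟨W.unop, 𝟙 _, x, ?_, rfl⟩
    change m = n
    refine sub_eq_zero.1 (h.inj W.unop (to' _) _ ⟨x⟩ ?_)
    rw [map_sub, map_sub, sub_eq_zero]
    exact hmn⟩
  have : Presheaf.IsLocallySurjective X.smallEtaleTopology φ := ⟨by
    intro W s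
    refine mem_topology fun x => ?_
    obtain ⟨V, g, v, m, hv, hm⟩ := h.surj W (to' W) s x
    refine ⟨V, g, v, ⟨m, ?_⟩, hv⟩
    refine Eq.trans ?_ hm.symm
    change G.obj.map (to' V).op (σ m) = G.obj.map (g ≫ to' W).op (σ m)
    rw [(EtCore.topIsTerminal X).hom_ext (g ≫ to' W) (to' V)]⟩
  exact ⟨(@asIso _ _ _ _ ((presheafToSheaf X.smallEtaleTopology AddCommGrpCat.{u + 1}).map φ)
      ((X.smallEtaleTopology.W_iff _).1 (X.smallEtaleTopology.W_of_isLocallyBijective φ))) ≪≫
    (sheafificationIso G).symm⟩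

theorem exists_iso_const_strictHens {X : Scheme.{u}} (F : EtCoh.Ab X) (hF : EtRest.IsLocallyConstant F)
    (htor : ∀ (Ω : Type u) [Field Ω] [IsSepClosed Ω] (ξ : Spec (CommRingCat.of Ω) ⟶ X)
      (s : (EtCoh.stalk ξ).obj F), ∃ n : ℕ, 0 < n ∧ (n : Ω) ≠ 0 ∧ n • s = 0)
    (R : Type u) [CommRing R] [HenselianLocalRing R] [IsSepClosed (IsLocalRing.ResidueField R)]
    (sp : Spec (CommRingCat.of R) ⟶ X) :
    ∃ M : AddCommGrpCat.{u + 1}, (∀ m : M, ∃ n : ℕ, 0 < n ∧ (n : IsLocalRing.ResidueField R) ≠ 0 ∧ n • m = 0) ∧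
      Nonempty ((Cst _).obj M ≅ (EtCoh.pull sp).obj F) := by
  let G := (EtCoh.pull sp).obj F
  obtain ⟨U, w, M, _, σ, hw, hσ⟩ :=
    LocConst45.pull_locTriv sp ((LocConst45.locallyConstant_iff F).1 hF) (closedPt R default)
  obtain ⟨t⟩ := EtCore45.exists_pt U (closedPt R) ⟨w, hw⟩
  obtain ⟨g, -⟩ := exists_section_top R t
  have hσ' := hσ.restrict g
  refine ⟨AddCommGrpCat.of M, fun (m : M) => ?_, exists_iso_cst_of_top G _ hσ'⟩
  obtain ⟨α, hα⟩ := (theta_bijective sp (closedPt R) F).2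
    (germ (closedPt R) G (topPt R) (G.obj.map g.op (σ m)))
  obtain ⟨n, hn0, hn, hnα⟩ := htor _ (closedPt R ≫ sp) α
  refine ⟨n, hn0, hn, hσ'.inj (EtCoh.top _) (𝟙 _) _ ⟨(closedPt R default :)⟩ ?_⟩
  rw [op_id, CategoryTheory.Functor.map_id, ConcreteCategory.id_apply]
  apply (germ_top_bijective R G).1
  change germ (closedPt R) G (topPt R) (G.obj.map g.op (σ (n • m))) = germ (closedPt R) G (topPt R) 0
  rw [map_zero, map_nsmul, map_nsmul, map_nsmul, ← hα, ← map_nsmul, hnα, map_zero]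

theorem natCast_residue_ne_zero {A B : Type u} [CommRing A] [CommRing B] [IsLocalRing A] [IsLocalRing B]
    (f : A →+* B) [IsLocalHom f] {n : ℕ} (h : (n : IsLocalRing.ResidueField B) ≠ 0) :
    (n : IsLocalRing.ResidueField A) ≠ 0 := by
  intro h0
  refine h ?_
  rw [← map_natCast (IsLocalRing.ResidueField.map f) n, h0, map_zero]

theorem HpullVia_bijective {V X : Scheme.{u}} [CompactSpace V] [QuasiSeparatedSpace V] (F : EtCoh.Ab X)
    (hF : EtRest.IsLocallyConstant F)
    (htor : ∀ (Ω : Type u) [Field Ω] [IsSepClosed Ω] (ξ : Spec (CommRingCat.of Ω) ⟶ X)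
      (s : (EtCoh.stalk ξ).obj F), ∃ n : ℕ, 0 < n ∧ (n : Ω) ≠ 0 ∧ n • s = 0)
    (R : Type u) [CommRing R] [HenselianLocalRing R] [IsSepClosed (IsLocalRing.ResidueField R)]
    (v : V ⟶ Spec (CommRingCat.of R)) [PreservesFiniteLimits (EtCoh.pull v)]
    (sp : Spec (CommRingCat.of R) ⟶ X)
    (hV : IsCycAcyclic V fun n => (n : IsLocalRing.ResidueField R) ≠ 0) (q : ℕ) :
    Function.Bijective (EtCore.HpullVia v sp (v ≫ sp) rfl F q) := by
  obtain ⟨M, hM, ⟨e⟩⟩ := exists_iso_const_strictHens F hF htor R sp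
  have hP : ∀ a b : ℕ, a ∣ b → (b : IsLocalRing.ResidueField R) ≠ 0 → (a : IsLocalRing.ResidueField R) ≠ 0 :=
    fun a b ⟨c, hc⟩ hb ha => hb (by rw [hc, Nat.cast_mul, ha, zero_mul])
  refine (ConcreteCategory.bijective_of_isIso ((EtCoh.HF V q).map
    (((EtCore.pullComp v sp).symm ≪≫ EtCore.pullCongr rfl).app F).hom)).comp (Hpull_bijective_of_iso v e q ?_)
  rcases Nat.eq_zero_or_pos q with rfl | hq
  · have : Nonempty V := by
      obtain ⟨n, hn1, hn⟩ : ∃ n : ℕ, 1 < n ∧ (n : IsLocalRing.ResidueField R) ≠ 0 := by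
        by_cases h2 : ((2 : ℕ) : IsLocalRing.ResidueField R) = 0
        · refine ⟨3, by norm_num, fun h3 => one_ne_zero (α := IsLocalRing.ResidueField R) ?_⟩
          push_cast at h2 h3
          linear_combination h3 - h2
        · exact ⟨2, by norm_num, h2⟩
      have : Fact (1 < n) := ⟨hn1⟩
      obtain ⟨i⟩ := (hV n hn).2
      have : Nontrivial (EtCoh.H V (EtCoh.const V (ZMod n)) 0) := i.toEquiv.nontrivial
      exact nonempty_of_nontrivial_H0 V M (EtCoh.const V (ZMod n)) 0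
    exact Hpull_const_bijective v M (psi_surjective_strictHens R M)
      ⟨psi_injective V M, psi_surjective hV hP M hM⟩
  · have := H_subsingleton R ((Cst _).obj M) q hq
    have : Subsingleton (EtCoh.H V ((EtCoh.pull v).obj ((Cst _).obj M)) q) :=
      have : Subsingleton ((EtCoh.HF V q).obj ((Cst V).obj M)) := H_const_subsingleton hV hP M hM hq
      ((EtCoh.HF V q).mapIso ((EtCore.pullConstIso v).app M)).addCommGroupIsoToAddEquiv.toEquiv.subsingleton
    exact ⟨fun a b _ => Subsingleton.elim a b, fun y => ⟨0, Subsingleton.elim _ y⟩⟩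

end Groth.Agent.EtLA91
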