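import Groth.Agent.Henz21.TensorSh
import Groth.Agent.Henz21.StrictMap
import Groth.Agent.Henz21.Unique
import Groth.Agent.S0537
import Mathlib.FieldTheory.IsSepClosed
import Mathlib.RingTheory.TensorProduct.Basic

/-!
Strict henselizations along a locally integral base change, and their tensor products with a point.
-/

set_option autoImplicit false
set_option linter.style.haveILetI false

universe u

open IsLocalRing TensorProduct

namespace Groth.Agent.EtLA91

/-- A strict henselization is one for every isomorphic local ring. -/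
theorem isStrictHenselization_of_ringEquiv {R R' S : Type u} [CommRing R] [IsLocalRing R] [CommRing R']
    [IsLocalRing R'] [CommRing S] [IsLocalRing S] [Algebra R' S] [IsLocalHom (algebraMap R' S)]
    [hS : Hensel.IsStrictHenselization R' S] [Algebra R S] [IsLocalHom (algebraMap R S)] (e : R ≃+* R')
    (he : ∀ r, algebraMap R S r = algebraMap R' S (e r)) : Hensel.IsStrictHenselization R S where
  henselian := hS.henselian
  isSepClosure := by
    have := hS.isSepClosure
    refine ⟨IsSepClosure.sep_closed (ResidueField R'), ?_⟩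
    have : Algebra.IsSeparable (ResidueField R') (ResidueField S) := IsSepClosure.separable
    exact Algebra.IsSeparable.of_equiv_equiv (ResidueField.mapEquiv e.symm) (RingEquiv.refl _)
      (RingHom.ext fun x => by
        obtain ⟨r, rfl⟩ := residue_surjective x
        exact congrArg (residue S) ((he (e.symm r)).trans (congrArg _ (e.apply_symm_apply r))))
  universal T _ _ f hf τ hτ := by
    haveI : IsLocalHom (e.symm : R' →+* R) := ⟨fun a ha => by simpa using ha.map (e : R →+* R')⟩
    haveI : IsLocalHom (f.comp (e.symm : R' →+* R)) := RingHom.isLocalHom_comp _ _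
    obtain ⟨g, ⟨hg, hg'⟩, huniq⟩ := hS.universal T (f.comp (e.symm : R' →+* R)) τ (RingHom.ext fun x => by
      obtain ⟨r, rfl⟩ := residue_surjective x
      refine Eq.trans ?_ (RingHom.congr_fun hτ (residue R (e.symm r)))
      exact congrArg τ (congrArg (residue S) ((he _).trans (congrArg _ (e.apply_symm_apply r))).symm))
    refine ⟨g, ⟨RingHom.ext fun r => ?_, hg'⟩, fun g' h' => huniq g' ⟨RingHom.ext fun r => ?_, h'.2⟩⟩
    · rw [RingHom.comp_apply, he]
      exact (RingHom.congr_fun hg _).trans (congrArg f (e.symm_apply_apply r))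
    · refine Eq.trans ?_ (RingHom.congr_fun h'.1 (e.symm r))
      exact congrArg g' ((he _).trans (congrArg _ (e.apply_symm_apply r))).symm

/-- An element separable over a subfield of a separably closed subfield lies in the latter. -/
theorem mem_range_of_separable {F E K L : Type u} [Field F] [Field E] [Field K] [Field L] [Algebra F E]
    [IsSepClosed K] (a : F →+* K) (c : E →+* L) (b : K →+* L) (h : ∀ x, b (a x) = c (algebraMap F E x))
    (y : E) (hy : IsSeparable F y) : c y ∈ b.range := by
  letI : Algebra K L := b.toAlgebra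
  let P := (minpoly F y).map a
  have hP : Polynomial.aeval (c y) P = 0 := by
    rw [Polynomial.aeval_def, Polynomial.eval₂_map, show (algebraMap K L).comp a = c.comp (algebraMap F E) from
      RingHom.ext h, ← Polynomial.hom_eval₂, ← Polynomial.aeval_def, minpoly.aeval, map_zero]
  have hne : P ≠ 0 := (Polynomial.map_ne_zero_iff a.injective).2 (minpoly.ne_zero hy.isIntegral)
  have hint : IsIntegral K (c y) := (isAlgebraic_iff_isIntegral).1 ⟨P, hne, hP⟩
  have hsep : (minpoly K (c y)).Separable := Polynomial.Separable.of_dvd (Polynomial.Separable.map (f := a) hy) (minpoly.dvd _ _ hP)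
  exact minpoly.degree_eq_one_iff.1
    (IsSepClosed.degree_eq_one_of_irreducible K (minpoly.irreducible hint) hsep)

/-- A map of localizations at compatible primes. -/
noncomputable def locMap {R R' : Type u} [CommRing R] [CommRing R'] (p : Ideal R) [p.IsPrime] (q : Ideal R') [q.IsPrime]
    (φ : R →+* R') (h : q.comap φ = p) (S : Type u) [CommRing S] [Algebra R S] [IsLocalization.AtPrime S p]
    (S' : Type u) [CommRing S'] [Algebra R' S'] [IsLocalization.AtPrime S' q] : S →+* S' :=
  IsLocalization.lift (M := p.primeCompl) (g := (algebraMap R' S').comp φ) fun s =>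
    IsLocalization.map_units S' (⟨φ s, fun hm => s.2 (h.le hm)⟩ : q.primeCompl)

theorem locMap_algebraMap {R R' : Type u} [CommRing R] [CommRing R'] (p : Ideal R) [p.IsPrime] (q : Ideal R') [q.IsPrime]
    (φ : R →+* R') (h : q.comap φ = p) (S : Type u) [CommRing S] [Algebra R S] [IsLocalization.AtPrime S p]
    (S' : Type u) [CommRing S'] [Algebra R' S'] [IsLocalization.AtPrime S' q] (r : R) :
    locMap p q φ h S S' (algebraMap R S r) = algebraMap R' S' (φ r) :=
  IsLocalization.lift_eq _ r

/-- A compatible map of localizations at compatible primes is local. -/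
theorem isLocalHom_of_compat {R R' : Type u} [CommRing R] [CommRing R'] (p : Ideal R) [p.IsPrime] (q : Ideal R')
    [q.IsPrime] (φ : R →+* R') (h : q.comap φ = p) {S : Type u} [CommRing S] [Algebra R S] [IsLocalization.AtPrime S p]
    {S' : Type u} [CommRing S'] [Algebra R' S'] [IsLocalization.AtPrime S' q] (g : S →+* S')
    (hg : ∀ r, g (algebraMap R S r) = algebraMap R' S' (φ r)) : IsLocalHom g := ⟨fun x hx => by
  obtain ⟨a, s, rfl⟩ := IsLocalization.exists_mk'_eq p.primeCompl x
  refine IsLocalization.AtPrime.isUnit_mk'_iff S p a s |>.2 fun ha => ?_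
  have h1 := congrArg g (IsLocalization.mk'_spec (S := S) a s)
  rw [map_mul, hg, hg] at h1
  have h2 : IsUnit (algebraMap R' S' (φ a)) := h1 ▸ hx.mul
    (IsLocalization.map_units S' (⟨φ s, fun hm => s.2 (h.le hm)⟩ : q.primeCompl))
  exact (IsLocalization.AtPrime.isUnit_to_map_iff S' q _).1 h2 (h.ge ha)⟩

variable {A B C : Type u} [CommRing A] [CommRing B] [CommRing C] [Algebra A B] [Algebra A C]
    (pA : Ideal A) [pA.IsPrime] (pB : Ideal B) [pB.IsPrime] [pB.LiesOver pA]
    (pC : Ideal C) [pC.IsPrime] [pC.LiesOver pA]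
    (pD : Ideal (B ⊗[A] C)) [pD.IsPrime]
    (SA : Type u) [CommRing SA] [IsLocalRing SA] [Algebra A SA] [IsLocalization.AtPrime SA pA]
    (SB : Type u) [CommRing SB] [IsLocalRing SB] [Algebra B SB] [IsLocalization.AtPrime SB pB]
    (SC : Type u) [CommRing SC] [IsLocalRing SC] [Algebra C SC] [IsLocalization.AtPrime SC pC]
    (SD : Type u) [CommRing SD] [IsLocalRing SD] [Algebra (B ⊗[A] C) SD] [IsLocalization.AtPrime SD pD]

set_option maxHeartbeats 1000000 in
include pA pB pC pD in
theorem exists_base (hDB : pD.comap (algebraMap B (B ⊗[A] C)) = pB)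
    (hDC : pD.comap (Algebra.TensorProduct.includeRight : C →ₐ[A] B ⊗[A] C).toRingHom = pC)
    (hfrac : ∀ x : Localization.AtPrime pB, ∃ b r : Localization.AtPrime pB,
      IsIntegral A b ∧ IsIntegral A r ∧ IsUnit r ∧ r * x = b)
    (gC : SA →+* SC) (hgC : ∀ a, gC (algebraMap A SA a) = algebraMap C SC (algebraMap A C a))
    (Bsh : Type u) [CommRing Bsh] [IsLocalRing Bsh] [Algebra SB Bsh] [IsLocalHom (algebraMap SB Bsh)]
    [Hensel.IsStrictHenselization SB Bsh]
    (Dsh : Type u) [CommRing Dsh] [IsLocalRing Dsh] [Algebra SD Dsh] [IsLocalHom (algebraMap SD Dsh)]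
    [Hensel.IsStrictHenselization SD Dsh]
    [Algebra Bsh Dsh] [IsLocalHom (algebraMap Bsh Dsh)]
    (hBD : ∀ b, algebraMap Bsh Dsh (algebraMap SB Bsh (algebraMap B SB b)) =
      algebraMap SD Dsh (algebraMap (B ⊗[A] C) SD (b ⊗ₜ 1))) :
    ∃ (Ash Csh : Type u) (_ : CommRing Ash) (_ : CommRing Csh) (_ : IsLocalRing Ash) (_ : IsLocalRing Csh)
      (_ : Algebra SA Ash) (_ : IsLocalHom (algebraMap SA Ash)) (_ : Hensel.IsStrictHenselization SA Ash)
      (_ : Algebra SC Csh) (_ : IsLocalHom (algebraMap SC Csh)) (_ : Hensel.IsStrictHenselization SC Csh)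
      (_ : Algebra Ash Csh) (_ : IsLocalHom (algebraMap Ash Csh)),
      (algebraMap Ash Csh).comp (algebraMap SA Ash) = (algebraMap SC Csh).comp gC ∧
      ∀ (Ω : Type u) [Field Ω] [Algebra Bsh Ω], ∃ (_ : Algebra Ash Ω),
        Nonempty (Dsh ⊗[Bsh] Ω ≃+* Csh ⊗[Ash] Ω) := by
  haveI : pD.LiesOver pB := ⟨hDB.symm⟩
  obtain ⟨Ash, _, _, _, _, _⟩ := S0537.result SA
  obtain ⟨Csh, _, _, _, _, _⟩ := S0537.result SC
  haveI := (‹Hensel.IsStrictHenselization SB Bsh›).henselian
  haveI := (‹Hensel.IsStrictHenselization SB Bsh›).isSepClosure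
  haveI : IsSepClosed (ResidueField Bsh) := IsSepClosure.sep_closed (ResidueField SB)
  haveI := (‹Hensel.IsStrictHenselization SD Dsh›).henselian
  haveI := (‹Hensel.IsStrictHenselization SD Dsh›).isSepClosure
  haveI : IsSepClosed (ResidueField Dsh) := IsSepClosure.sep_closed (ResidueField SD)
  haveI := (‹Hensel.IsStrictHenselization SA Ash›).henselian
  haveI hAs := (‹Hensel.IsStrictHenselization SA Ash›).isSepClosure
  haveI := (‹Hensel.IsStrictHenselization SC Csh›).henselian
  haveI := (‹Hensel.IsStrictHenselization SC Csh›).isSepClosure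
  haveI : IsSepClosed (ResidueField Csh) := IsSepClosure.sep_closed (ResidueField SC)
  let iR : C →+* B ⊗[A] C := (Algebra.TensorProduct.includeRight : C →ₐ[A] B ⊗[A] C).toRingHom
  -- local maps between the local rings
  have hAB : pB.comap (algebraMap A B) = pA := (Ideal.over_def pB pA).symm
  let gB : SA →+* SB := locMap pA pB (algebraMap A B) hAB SA SB
  haveI hgB : IsLocalHom gB := isLocalHom_of_compat pA pB _ hAB _ (locMap_algebraMap pA pB _ hAB SA SB)
  let lC : SC →+* SD := locMap pC pD iR hDC SC SD
  haveI : IsLocalHom lC := isLocalHom_of_compat pC pD iR hDC _ (locMap_algebraMap pC pD iR hDC SC SD)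
  let fC : SC →+* Dsh := (algebraMap SD Dsh).comp lC
  haveI hfC : IsLocalHom fC := RingHom.isLocalHom_comp _ _
  haveI hgCl : IsLocalHom gC := isLocalHom_of_compat pA pC _ (Ideal.over_def pC pA).symm gC hgC
  haveI : IsLocalHom ((algebraMap SB Bsh).comp gB) := RingHom.isLocalHom_comp _ _
  obtain ⟨β, hβ, hβl⟩ := Henz21.exists_map_of_strictHenselization (A := SA) (Ash := Ash)
    ((algebraMap SB Bsh).comp gB)
  obtain ⟨γ, hγ, hγl⟩ := Henz21.exists_map_of_strictHenselization (A := SC) (Ash := Csh) fC
  let ι := algebraMap Bsh Dsh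
  haveI : IsLocalHom (ι.comp β) := RingHom.isLocalHom_comp _ _
  have hιβ : ∀ a, ι (β (algebraMap SA Ash a)) = γ (algebraMap SC Csh (gC a)) := by
    refine fun a => RingHom.congr_fun (?_ : (ι.comp (β.comp (algebraMap SA Ash))) =
      γ.comp ((algebraMap SC Csh).comp gC)) a
    refine IsLocalization.ringHom_ext pA.primeCompl (RingHom.ext fun a => ?_)
    simp only [RingHom.comp_apply]
    rw [← RingHom.comp_apply β, hβ, ← RingHom.comp_apply γ, hγ, hgC]
    simp only [fC, gB, lC, RingHom.comp_apply, locMap_algebraMap]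
    rw [hBD]
    congr 2
    exact ((Algebra.TensorProduct.includeLeft (S := A) : B →ₐ[A] B ⊗[A] C).commutes a).trans
      ((Algebra.TensorProduct.includeRight : C →ₐ[A] B ⊗[A] C).commutes a).symm
  -- the map on residue fields
  haveI : Algebra.IsSeparable (ResidueField SA) (ResidueField Ash) := IsSepClosure.separable
  let c := ResidueField.map (ι.comp β)
  let b := ResidueField.map γ
  let a₀ := (ResidueField.map (algebraMap SC Csh)).comp (ResidueField.map gC)
  have hba : ∀ x, b (a₀ x) = c (algebraMap (ResidueField SA) (ResidueField Ash) x) := fun x => by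
    obtain ⟨r, rfl⟩ := residue_surjective x
    exact congrArg (residue Dsh) (hιβ r).symm
  have hmem : ∀ y, ∃ z, b z = c y := fun y =>
    mem_range_of_separable a₀ c b hba y (Algebra.IsSeparable.isSeparable _ y)
  let τ : ResidueField Ash →+* ResidueField Csh :=
    { toFun := fun y => (hmem y).choose
      map_one' := b.injective (by rw [(hmem 1).choose_spec, map_one, map_one])
      map_mul' := fun x y => b.injective (by
        rw [(hmem _).choose_spec, map_mul, map_mul, (hmem x).choose_spec, (hmem y).choose_spec])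
      map_zero' := b.injective (by rw [(hmem 0).choose_spec, map_zero, map_zero])
      map_add' := fun x y => b.injective (by
        rw [(hmem _).choose_spec, map_add, map_add, (hmem x).choose_spec, (hmem y).choose_spec]) }
  have hτ : ∀ y, b (τ y) = c y := fun y => (hmem y).choose_spec
  haveI : IsLocalHom ((algebraMap SC Csh).comp gC) := RingHom.isLocalHom_comp _ _
  obtain ⟨α, ⟨hα, hα'⟩, -⟩ := (‹Hensel.IsStrictHenselization SA Ash›).universal Csh
    ((algebraMap SC Csh).comp gC) τ (RingHom.ext fun x => b.injective (by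
      obtain ⟨r, rfl⟩ := residue_surjective x
      refine (hτ _).trans ?_
      exact congrArg (residue Dsh) (hιβ r)))
  haveI hαl : IsLocalHom α := ⟨fun x hx => by
    have h1 : residue Csh (α x) ≠ 0 := fun h => notMem_maximalIdeal.mpr hx ((residue_eq_zero_iff _).mp h)
    rw [hα'] at h1
    exact notMem_maximalIdeal.mp fun h => h1 (by rw [(residue_eq_zero_iff x).mpr h, map_zero])⟩
  haveI : IsLocalHom ((ι.comp β).comp (algebraMap SA Ash)) := RingHom.isLocalHom_comp _ _
  have hsq : γ.comp α = ι.comp β := ((‹Hensel.IsStrictHenselization SA Ash›).universal Dsh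
    ((ι.comp β).comp (algebraMap SA Ash)) c (RingHom.ext fun x => by
      obtain ⟨r, rfl⟩ := residue_surjective x
      rfl)).unique
    ⟨RingHom.ext fun r => by
      simp only [RingHom.comp_apply]
      rw [← RingHom.comp_apply α, hα, hιβ]
      rfl, fun x => by
      rw [RingHom.comp_apply, ← ResidueField.map_residue γ, hα']
      exact hτ _⟩
    ⟨rfl, fun x => rfl⟩
  -- localizations at primes
  let eA := (IsLocalization.algEquiv pA.primeCompl (Localization.AtPrime pA) SA).toRingEquiv
  let eB := (IsLocalization.algEquiv pB.primeCompl (Localization.AtPrime pB) SB).toRingEquiv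
  let eC := (IsLocalization.algEquiv pC.primeCompl (Localization.AtPrime pC) SC).toRingEquiv
  let eD := (IsLocalization.algEquiv pD.primeCompl (Localization.AtPrime pD) SD).toRingEquiv
  letI : Algebra (Localization.AtPrime pA) Ash := ((algebraMap SA Ash).comp eA.toRingHom).toAlgebra
  haveI : IsLocalHom (algebraMap (Localization.AtPrime pA) Ash) :=
    ⟨fun x hx => by simpa using (isUnit_of_map_unit (algebraMap SA Ash) _ hx).map eA.symm⟩
  haveI := isStrictHenselization_of_ringEquiv (S := Ash) eA fun _ => rfl
  letI : Algebra (Localization.AtPrime pB) Bsh := ((algebraMap SB Bsh).comp eB.toRingHom).toAlgebra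
  haveI : IsLocalHom (algebraMap (Localization.AtPrime pB) Bsh) :=
    ⟨fun x hx => by simpa using (isUnit_of_map_unit (algebraMap SB Bsh) _ hx).map eB.symm⟩
  haveI := isStrictHenselization_of_ringEquiv (S := Bsh) eB fun _ => rfl
  letI : Algebra (Localization.AtPrime pC) Csh := ((algebraMap SC Csh).comp eC.toRingHom).toAlgebra
  haveI : IsLocalHom (algebraMap (Localization.AtPrime pC) Csh) :=
    ⟨fun x hx => by simpa using (isUnit_of_map_unit (algebraMap SC Csh) _ hx).map eC.symm⟩
  haveI := isStrictHenselization_of_ringEquiv (S := Csh) eC fun _ => rfl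
  letI : Algebra (Localization.AtPrime pD) Dsh := ((algebraMap SD Dsh).comp eD.toRingHom).toAlgebra
  haveI : IsLocalHom (algebraMap (Localization.AtPrime pD) Dsh) :=
    ⟨fun x hx => by simpa using (isUnit_of_map_unit (algebraMap SD Dsh) _ hx).map eD.symm⟩
  haveI := isStrictHenselization_of_ringEquiv (S := Dsh) eD fun _ => rfl
  -- algebra structures over the rings
  letI : Algebra A Ash := ((algebraMap SA Ash).comp (algebraMap A SA)).toAlgebra
  haveI : IsScalarTower A (Localization.AtPrime pA) Ash := IsScalarTower.of_algebraMap_eq fun x =>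
    congrArg (algebraMap SA Ash) ((IsLocalization.algEquiv pA.primeCompl _ SA).commutes x).symm
  letI : Algebra B Bsh := ((algebraMap SB Bsh).comp (algebraMap B SB)).toAlgebra
  haveI : IsScalarTower B (Localization.AtPrime pB) Bsh := IsScalarTower.of_algebraMap_eq fun x =>
    congrArg (algebraMap SB Bsh) ((IsLocalization.algEquiv pB.primeCompl _ SB).commutes x).symm
  letI : Algebra C Csh := ((algebraMap SC Csh).comp (algebraMap C SC)).toAlgebra
  haveI : IsScalarTower C (Localization.AtPrime pC) Csh := IsScalarTower.of_algebraMap_eq fun x =>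
    congrArg (algebraMap SC Csh) ((IsLocalization.algEquiv pC.primeCompl _ SC).commutes x).symm
  letI : Algebra (B ⊗[A] C) Dsh := ((algebraMap SD Dsh).comp (algebraMap (B ⊗[A] C) SD)).toAlgebra
  haveI : IsScalarTower (B ⊗[A] C) (Localization.AtPrime pD) Dsh := IsScalarTower.of_algebraMap_eq fun x =>
    congrArg (algebraMap SD Dsh) ((IsLocalization.algEquiv pD.primeCompl _ SD).commutes x).symm
  letI : Algebra A Bsh := ((algebraMap B Bsh).comp (algebraMap A B)).toAlgebra
  haveI : IsScalarTower A B Bsh := IsScalarTower.of_algebraMap_eq' rfl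
  letI : Algebra A Csh := ((algebraMap C Csh).comp (algebraMap A C)).toAlgebra
  haveI : IsScalarTower A C Csh := IsScalarTower.of_algebraMap_eq' rfl
  letI iAB : Algebra Ash Bsh := β.toAlgebra
  haveI : IsScalarTower A Ash Bsh := IsScalarTower.of_algebraMap_eq fun x => by
    refine Eq.symm ((RingHom.congr_fun hβ _).trans ?_)
    exact congrArg (algebraMap SB Bsh) (locMap_algebraMap pA pB _ hAB SA SB x)
  haveI : IsLocalHom (algebraMap Ash Bsh) := hβl
  letI iAC : Algebra Ash Csh := α.toAlgebra
  haveI : IsScalarTower A Ash Csh := IsScalarTower.of_algebraMap_eq fun x =>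
    ((RingHom.congr_fun hα _).trans (congrArg (algebraMap SC Csh) (hgC x))).symm
  haveI : IsLocalHom (algebraMap Ash Csh) := hαl
  letI : Algebra Csh Dsh := γ.toAlgebra
  haveI : IsLocalHom (algebraMap Csh Dsh) := hγl
  letI : Algebra B Dsh := ((algebraMap Bsh Dsh).comp (algebraMap B Bsh)).toAlgebra
  haveI : IsScalarTower B Bsh Dsh := IsScalarTower.of_algebraMap_eq' rfl
  haveI : IsScalarTower B (B ⊗[A] C) Dsh := IsScalarTower.of_algebraMap_eq fun x => hBD x
  letI : Algebra Ash Dsh := (ι.comp β).toAlgebra
  haveI : IsScalarTower Ash Bsh Dsh := IsScalarTower.of_algebraMap_eq' rfl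
  haveI : IsScalarTower Ash Csh Dsh := IsScalarTower.of_algebraMap_eq' hsq.symm
  haveI := Henz21.isIntegral_strictHenselization_atPrime pA pB Ash Bsh hfrac
  have hbij := Henz21.bijective_tensor_strictHenselization pA pB pC pD Ash Bsh Csh Dsh fun x => by
    refine (RingHom.congr_fun hγ _).trans ?_
    exact congrArg (algebraMap SD Dsh) (locMap_algebraMap pC pD iR hDC SC SD x)
  let Φ : Bsh ⊗[Ash] Csh ≃ₐ[Bsh] Dsh :=
    { RingEquiv.ofBijective (Algebra.TensorProduct.lift (IsScalarTower.toAlgHom Ash Bsh Dsh)
        (IsScalarTower.toAlgHom Ash Csh Dsh) (fun _ _ => Commute.all _ _)).toRingHom hbij with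
      commutes' := fun x => by
        show Algebra.TensorProduct.lift _ _ _ (x ⊗ₜ 1) = _
        simp }
  refine ⟨Ash, Csh, inferInstance, inferInstance, inferInstance, inferInstance, inferInstance, inferInstance,
    inferInstance, inferInstance, inferInstance, inferInstance, iAC, inferInstance, hα, fun Ω _ _ => ?_⟩
  letI : Algebra Ash Ω := ((algebraMap Bsh Ω).comp β).toAlgebra
  haveI : IsScalarTower Ash Bsh Ω := IsScalarTower.of_algebraMap_eq' rfl
  exact ⟨inferInstance, ⟨((Algebra.TensorProduct.congr Φ.symm (AlgEquiv.refl (A₁ := Ω))).toRingEquiv.trans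
    (Algebra.TensorProduct.comm Bsh (Bsh ⊗[Ash] Csh) Ω).toRingEquiv).trans
    ((Algebra.TensorProduct.cancelBaseChange Ash Bsh Bsh Ω Csh).toRingEquiv.trans
      (Algebra.TensorProduct.comm Ash Ω Csh).toRingEquiv)⟩⟩

end Groth.Agent.EtLA91
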