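import Mathlib.Algebra.Category.Grp.FilteredColimits
import Mathlib.GroupTheory.FiniteAbelian.Basic
import Mathlib.CategoryTheory.Limits.Filtered
import Mathlib.CategoryTheory.Limits.Types.Filtered
import Mathlib.CategoryTheory.Preadditive.AdditiveFunctor
import Mathlib.Algebra.Category.Grp.Preadditive

/-!
A property of functors on abelian groups which holds for finite cyclic groups holds for torsion groups.
-/

set_option autoImplicit false

universe w

open CategoryTheory CategoryTheory.Limits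

namespace Groth.Agent.EtLA91

variable (Φ : AddCommGrpCat.{w} ⥤ AddCommGrpCat.{w}) [Φ.Additive]
  (R : ∀ M : AddCommGrpCat.{w}, AddSubgroup (Φ.obj M))
  (P : ℕ → Prop)

/-- The cyclic group of order `n`. -/
abbrev cyc (n : ℕ) : AddCommGrpCat.{w} := AddCommGrpCat.of (ULift.{w} (ZMod n))

theorem top_of_finite (hP : ∀ a b, a ∣ b → P b → P a)
    (hR : ∀ {M N : AddCommGrpCat.{w}} (f : M ⟶ N), ∀ x ∈ R M, Φ.map f x ∈ R N)
    (hcyc : ∀ n, 0 < n → P n → R (cyc n) = ⊤)
    (M : AddCommGrpCat.{w}) [Finite M] (hM : ∀ m : M, ∃ n, 0 < n ∧ P n ∧ n • m = 0) :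
    R M = ⊤ := by
  classical
  obtain ⟨ι, _, n, hn, ⟨e⟩⟩ := AddCommGroup.equiv_directSum_zmod_of_finite' M
  let e' : M ≃+ ((i : ι) → ZMod (n i)) := e.trans (DirectSum.addEquivProd _)
  let π : ∀ i, M ⟶ cyc (n i) := fun i => AddCommGrpCat.ofHom
    ((AddEquiv.ulift.symm.toAddMonoidHom).comp ((Pi.evalAddMonoidHom _ i).comp e'.toAddMonoidHom))
  let s : ∀ i, cyc (n i) ⟶ M := fun i => AddCommGrpCat.ofHom
    ((e'.symm.toAddMonoidHom.comp (AddMonoidHom.single _ i)).comp AddEquiv.ulift.toAddMonoidHom)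
  have hid : 𝟙 M = ∑ i, π i ≫ s i := by
    refine ConcreteCategory.hom_ext _ _ fun m => ?_
    refine Eq.trans ?_ (map_sum (AddMonoidHom.mk' (fun g : M ⟶ M => g m) fun _ _ => rfl) _ _).symm
    apply e'.injective
    rw [map_sum]
    refine (Finset.univ_sum_single (e' m)).symm.trans (Finset.sum_congr rfl fun i _ => ?_)
    exact (e'.apply_symm_apply _).symm
  have hPn : ∀ i, P (n i) := fun i => by
    obtain ⟨k, -, hk, hk0⟩ := hM (e'.symm (Pi.single i 1))
    refine hP _ _ ((ZMod.natCast_eq_zero_iff _ _).1 ?_) hk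
    have h := congrArg (fun x => e' x i) hk0
    simp only [map_nsmul, e'.apply_symm_apply, map_zero, Pi.smul_apply, Pi.single_eq_same,
      Pi.zero_apply, nsmul_eq_mul, mul_one] at h
    exact h
  refine eq_top_iff.2 fun x _ => ?_
  have hx : x = ∑ i, Φ.map (s i) (Φ.map (π i) x) := by
    have h := ConcreteCategory.congr_hom (congrArg Φ.map hid) x
    rw [Φ.map_id, Φ.map_sum] at h
    refine h.trans ((map_sum (AddMonoidHom.mk' (fun g : Φ.obj M ⟶ Φ.obj M => g x) fun _ _ => rfl) _ _).trans ?_)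
    refine Finset.sum_congr rfl fun i _ => ?_
    change Φ.map (π i ≫ s i) x = _
    rw [Φ.map_comp]
    rfl
  rw [hx]
  exact sum_mem fun i _ => hR _ _ (by rw [hcyc _ (zero_lt_one.trans (hn i)) (hPn i)]; trivial)

/-- The finitely generated subgroups of an abelian group. -/
noncomputable def fgDiagram (M : AddCommGrpCat.{w}) : Finset M ⥤ AddCommGrpCat.{w} where
  obj s := AddCommGrpCat.of (AddSubgroup.closure (s : Set M))
  map h := AddCommGrpCat.ofHom (AddSubgroup.inclusion (AddSubgroup.closure_mono (Finset.coe_subset.2 (leOfHom h))))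
  map_id _ := rfl
  map_comp _ _ := rfl

/-- An abelian group as a colimit of its finitely generated subgroups. -/
noncomputable def fgCocone (M : AddCommGrpCat.{w}) : Cocone (fgDiagram M) where
  pt := M
  ι := { app := fun s => AddCommGrpCat.ofHom (AddSubgroup.closure (s : Set M)).subtype }

theorem exists_isColimit_fgCocone (M : AddCommGrpCat.{w}) : Nonempty (IsColimit (fgCocone M)) := by
  classical
  have : ReflectsColimitsOfShape (Finset M) (forget AddCommGrpCat.{w}) :=
    reflectsColimitsOfShape_of_reflectsIsomorphisms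
  refine ⟨isColimitOfReflects (forget AddCommGrpCat.{w}) (Types.FilteredColimit.isColimitOf _ _ ?_ ?_)⟩
  · intro m
    exact ⟨{(m : M)}, ⟨m, AddSubgroup.subset_closure (Finset.mem_coe.2 (Finset.mem_singleton_self _))⟩, rfl⟩
  · intro i j a b h
    exact ⟨i ∪ j, homOfLE Finset.subset_union_left, homOfLE Finset.subset_union_right, Subtype.ext h⟩

theorem top_of_torsion [∀ M : AddCommGrpCat.{w}, PreservesColimitsOfShape (Finset M) Φ]
    (hP : ∀ a b, a ∣ b → P b → P a)
    (hR : ∀ {M N : AddCommGrpCat.{w}} (f : M ⟶ N), ∀ x ∈ R M, Φ.map f x ∈ R N)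
    (hcyc : ∀ n, 0 < n → P n → R (cyc n) = ⊤)
    (M : AddCommGrpCat.{w}) (hM : ∀ m : M, ∃ n, 0 < n ∧ P n ∧ n • m = 0) :
    R M = ⊤ := by
  classical
  refine eq_top_iff.2 fun x _ => ?_
  obtain ⟨hc⟩ := exists_isColimit_fgCocone M
  obtain ⟨s, y, hy⟩ := Types.jointly_surjective _
    (isColimitOfPreserves (Φ ⋙ forget AddCommGrpCat.{w}) hc) x
  have htor : ∀ m : AddSubgroup.closure (s : Set M), ∃ n, 0 < n ∧ P n ∧ n • m = 0 := fun m => by
    obtain ⟨n, h0, h1, h2⟩ := hM m.1
    exact ⟨n, h0, h1, Subtype.ext h2⟩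
  have : AddGroup.FG (AddSubgroup.closure (s : Set M)) :=
    (AddGroup.fg_iff_addSubgroup_fg _).2 ⟨s, rfl⟩
  have : Finite (AddSubgroup.closure (s : Set M)) :=
    AddCommGroup.finite_of_fg_isAddTorsion _ fun m => by
      obtain ⟨n, h0, -, h2⟩ := htor m
      exact isOfFinAddOrder_iff_nsmul_eq_zero.2 ⟨n, h0, h2⟩
  have : Finite ((fgDiagram M).obj s : AddCommGrpCat.{w}) := this
  have h := top_of_finite Φ R P hP hR hcyc ((fgDiagram M).obj s) htor
  rw [← hy]
  exact hR ((fgCocone M).ι.app s) (y : Φ.obj ((fgDiagram M).obj s)) (by rw [h]; exact AddSubgroup.mem_top _)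

end Groth.Agent.EtLA91
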